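import Cfsg.Agent.H486.EP.Tw
import Cfsg.Agent.H537.EP.OfMJ
import Cfsg.Agent.H892.EP.TM

/-!
# `Good` for `²E₆(q)` and `³D₄(q)` (S4929, [TA-TW], helper486)
-/

set_option autoImplicit false

namespace Cfsg.Agent.H486.EP

open Cfsg Cfsg.Agent.H892.EP Cfsg.Agent.H537.EP
open Matrix

variable {F : Type} [Field F] [Fintype F] {r : ℕ} [Fact r.Prime] [CharP F r] {p : ℕ} [Fact p.Prime]

theorem good_te6 {q : ℕ} (hq : IsPrimePow q) (hF : Fintype.card F = q ^ 2) (hp : ¬ p ∣ q ^ 2 - 1) {d : ℕ}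
    (hd : d = 2 ∨ d = 3) (h : Good p r (SpecialLinearGroup (Fin d) F)) : Good p r (Lie.twistedE6 F q) := by
  obtain ⟨φ, hφ, hqq⟩ := Cfsg.Agent.ChevalleyStructure.TwE6Basic.exists_frob hq hF
  have : Finite (CoxeterMatrix.F₄).Group :=
    Cfsg.Agent.Nodes.RGDFold.finite_W (hp := Cfsg.Agent.Nodes.RGDTwE6.hp) CoxeterMatrix.F₄.toCoxeterSystem
      Cfsg.Agent.Nodes.RGDTwE6.isCartan Cfsg.Agent.Nodes.RGDTwE6.foldData
  rw [← hF] at hp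
  obtain ⟨J, hJ⟩ := good_MJ_te6 hφ hqq hp hd h
  exact good_of_MJ (Cfsg.Agent.Nodes.RGDTwE6.rgd CoxeterMatrix.F₄.toCoxeterSystem hφ hqq r)
    (Cfsg.Agent.Nodes.RGDTwE6.G1_eq_top CoxeterMatrix.F₄.toCoxeterSystem hφ hqq) J hJ

theorem good_td4 {q : ℕ} (hq : IsPrimePow q) (hF : Fintype.card F = q ^ 3) (hp2 : p ≠ 2)
    (h : Good p r (SpecialLinearGroup (Fin 2) F)) : Good p r (Lie.twistedD4 F q) := by
  obtain ⟨φ, hφ⟩ := Cfsg.Agent.ChevalleyStructure.D4Fixed.exists_frob hq hF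
  have : Finite (CoxeterMatrix.G₂).Group :=
    Cfsg.Agent.Nodes.RGDFold.finite_W (hp := Cfsg.Agent.Nodes.RGDTwD4.hp) CoxeterMatrix.G₂.toCoxeterSystem
      Cfsg.Agent.Nodes.RGDTwD4.isCartan Cfsg.Agent.Nodes.RGDTwD4.foldData
  exact good_of_MJ (Cfsg.Agent.Nodes.RGDTwD4.rgd CoxeterMatrix.G₂.toCoxeterSystem hF hφ r)
    (Cfsg.Agent.Nodes.RGDTwD4.G1_eq_top CoxeterMatrix.G₂.toCoxeterSystem hF hφ) {1} (good_MJ_td4 hF hφ hp2 h)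

end Cfsg.Agent.H486.EP
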